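/-
Characters restricting irreducibly to a solvable normal subgroup with abelian Sylow subgroups are monomial.
-/
import Cfsg.Agent.Lib.CT.Chief
import Cfsg.Agent.Lib.CT.Brauer
import Mathlib.GroupTheory.Nilpotent
import Mathlib.GroupTheory.Sylow

set_option autoImplicit false

namespace Cfsg.Agent.RelMono

open Cfsg.Agent.CT
open scoped commutatorElement

universe u

/-- Every subgroup of prime power order inside `M` is abelian. -/
def AbSyl {G : Type u} [Group G] (M : Subgroup G) : Prop :=
  ∀ p : ℕ, p.Prime → ∀ Q : Subgroup G, Q ≤ M → IsPGroup p Q → ∀ a ∈ Q, ∀ b ∈ Q, a * b = b * a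

/-- A finite nilpotent group whose Sylow subgroups are abelian is abelian. -/
theorem comm_of_nilpotent {K : Type u} [Group K] [Finite K] (hnil : Group.IsNilpotent K)
    (hab : ∀ (p : ℕ) [Fact p.Prime] (P : Sylow p K), ∀ a ∈ P, ∀ b ∈ P, a * b = b * a) (x y : K) :
    x * y = y * x := by
  have hiff : Group.IsNilpotent K ↔ ∀ (p : ℕ) (_hp : Fact p.Prime) (P : Sylow p K), (P : Subgroup K).Normal :=
    (Group.isNilpotent_of_finite_tfae (G := K)).out 0 3
  have hn : ∀ {p : ℕ} [Fact p.Prime] (P : Sylow p K), (P : Subgroup K).Normal := fun {p} hp P =>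
    hiff.1 hnil p hp P
  let e := Sylow.directProductOfNormal (G := K) hn
  obtain ⟨f, rfl⟩ := e.surjective x
  obtain ⟨g, rfl⟩ := e.surjective y
  rw [← map_mul, ← map_mul]
  congr 1
  funext p P
  haveI : Fact (p : ℕ).Prime := Fact.mk (Nat.prime_of_mem_primeFactors p.2)
  exact Subtype.ext (hab p P _ (f p P).2 _ (g p P).2)

variable {G : Type u} [Group G] [Fintype G]

theorem AbSyl.quotient {K : Subgroup G} (h : AbSyl K) (R : Subgroup K) [R.Normal] (p : ℕ) [hp : Fact p.Prime]
    (P : Sylow p (K ⧸ R)) : ∀ a ∈ P, ∀ b ∈ P, a * b = b * a := by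
  obtain ⟨P₀, rfl⟩ := Sylow.mapSurjective_surjective (QuotientGroup.mk'_surjective R) p P
  intro a ha b hb
  have hP : ((P₀.mapSurjective (QuotientGroup.mk'_surjective R) : Sylow p (K ⧸ R)) : Subgroup (K ⧸ R)) =
      (P₀ : Subgroup K).map (QuotientGroup.mk' R) := Sylow.coe_mapSurjective _ _
  replace ha := (SetLike.ext_iff.1 hP a).1 ha
  replace hb := (SetLike.ext_iff.1 hP b).1 hb
  obtain ⟨a, ha, rfl⟩ := ha
  obtain ⟨b, hb, rfl⟩ := hb
  rw [← map_mul, ← map_mul]
  congr 1
  exact Subtype.ext (h p hp.out ((P₀ : Subgroup K).map K.subtype) (Subgroup.map_subtype_le _)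
    (P₀.isPGroup'.map _) (a : G) ⟨a, ha, rfl⟩ (b : G) ⟨b, hb, rfl⟩)

theorem conj_mem_kerChar {χ : G → ℂ} (hχ : IsCharacter G χ) (x : G) {g : G} (hg : g ∈ kerChar χ) :
    x * g * x⁻¹ ∈ kerChar χ := by
  rw [mem_kerChar_iff hχ] at hg ⊢
  rw [isClassFunction_of_isCharacter hχ g x, hg]

/-- Abelian modulo the kernel of `χ`. -/
theorem comm_mem_ker_of_nilpotent {χ : G → ℂ} (hχ : IsCharacter G χ) {A K : Subgroup G} (hK : AbSyl K)
    (hcen : ∀ a ∈ A, ∀ k ∈ K, ⁅a, k⁆ ∈ kerChar χ) (hder : ∀ a ∈ K, ∀ b ∈ K, ⁅a, b⁆ ∈ A) :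
    ∀ a ∈ K, ∀ b ∈ K, ⁅a, b⁆ ∈ kerChar χ := by
  let R : Subgroup K := (kerChar χ).subgroupOf K
  haveI hR : R.Normal := ⟨fun n hn g => by
    rw [Subgroup.mem_subgroupOf] at hn ⊢
    simpa using conj_mem_kerChar hχ (g : G) hn⟩
  have hc : commutator (K ⧸ R) ≤ Subgroup.center (K ⧸ R) := by
    rw [commutator_eq_closure, Subgroup.closure_le]
    rintro _ ⟨x, y, rfl⟩
    obtain ⟨a, rfl⟩ := QuotientGroup.mk_surjective x
    obtain ⟨b, rfl⟩ := QuotientGroup.mk_surjective y
    rw [SetLike.mem_coe, Subgroup.mem_center_iff]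
    intro z
    obtain ⟨k, rfl⟩ := QuotientGroup.mk_surjective z
    symm
    rw [← commutatorElement_eq_one_iff_mul_comm]
    refine (QuotientGroup.eq_one_iff (N := R) (⁅⁅a, b⁆, k⁆)).2 ?_
    rw [Subgroup.mem_subgroupOf]
    simpa [commutatorElement_def] using hcen _ (hder (a : G) a.2 (b : G) b.2) (k : G) k.2
  have hnil : Group.IsNilpotent (K ⧸ R) := by
    refine Subgroup.isNilpotent_of_ker_le_center (Abelianization.of (G := K ⧸ R)) ?_
    rw [Abelianization.ker_of]
    exact hc
  intro a ha b hb
  have h := comm_of_nilpotent hnil (hK.quotient R) (QuotientGroup.mk ⟨a, ha⟩) (QuotientGroup.mk ⟨b, hb⟩)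
  rw [← commutatorElement_eq_one_iff_mul_comm] at h
  have h' := Subgroup.mem_subgroupOf.1 ((QuotientGroup.eq_one_iff (N := R) (⁅(⟨a, ha⟩ : K), ⟨b, hb⟩⁆)).1 h)
  simpa [commutatorElement_def] using h'

/-- A normal subgroup abelian modulo the kernel has a linear constituent. -/
theorem exists_linear_constituent {χ : G → ℂ} (hχ : IsIrrCharacter G χ) (A : Subgroup G) [Fintype A]
    (hA : ∀ a ∈ A, ∀ b ∈ A, ⁅a, b⁆ ∈ kerChar χ) :
    ∃ lam : A →* ℂˣ, classInner (fun a : A => χ a) (fun a => (lam a : ℂ)) ≠ 0 := by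
  classical
  have hχc := isCharacter_of_isIrr hχ
  have hres := isCharacter_restrict A hχc
  have hle : commutator A ≤ (kerChar χ).subgroupOf A := by
    rw [commutator_eq_closure, Subgroup.closure_le]
    rintro _ ⟨x, y, rfl⟩
    rw [SetLike.mem_coe, Subgroup.mem_subgroupOf]
    simpa [commutatorElement_def] using hA (x : G) x.2 (y : G) y.2
  obtain ⟨ψ, hψ, hψe⟩ := exists_quotient_character hres (commutator A) fun n hn =>
    (mem_kerChar_iff hχc).1 (hle hn)
  haveI := Fintype.ofFinite (A ⧸ commutator A)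
  have hψ0 : ψ ≠ 0 := fun h => irr_one_ne_zero hχ (by
    have := hψe 1
    rw [h] at this
    simpa using this.symm)
  have hc : ∀ a b : A ⧸ commutator A, a * b = b * a := by
    intro a b
    obtain ⟨a, rfl⟩ := QuotientGroup.mk_surjective a
    obtain ⟨b, rfl⟩ := QuotientGroup.mk_surjective b
    rw [← commutatorElement_eq_one_iff_mul_comm]
    exact (QuotientGroup.eq_one_iff (⁅a, b⁆)).2 (Subgroup.commutator_mem_commutator (Subgroup.mem_top a) (Subgroup.mem_top b))
  obtain ⟨η, hη⟩ := exists_constituent hψ hψ0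
  obtain ⟨mu, hmu⟩ := exists_hom_of_comm hc η.2
  refine ⟨mu.comp (QuotientGroup.mk' _), fun h => hη ?_⟩
  rw [hmu]
  simp only [classInner, mul_eq_zero, inv_eq_zero] at h ⊢
  refine Or.inr ?_
  have h' := h.resolve_left (Nat.cast_ne_zero.mpr Nat.card_pos.ne')
  rw [← Finset.sum_fiberwise Finset.univ (fun a : A => (QuotientGroup.mk a : A ⧸ commutator A))] at h'
  have hfib : ∀ q : A ⧸ commutator A, ((Finset.univ : Finset A).filter fun a : A => (QuotientGroup.mk a : A ⧸ commutator A) = q).card =
      Nat.card (commutator A) := by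
    intro q
    obtain ⟨a₀, rfl⟩ := QuotientGroup.mk_surjective q
    rw [← Fintype.card_subtype, ← Nat.card_eq_fintype_card]
    refine (Nat.card_congr (Equiv.subtypeEquiv (Equiv.mulLeft a₀⁻¹) fun a => ?_)).trans rfl
    rw [eq_comm, QuotientGroup.eq]
    rfl
  have hsum : ∀ q : A ⧸ commutator A, (∑ a ∈ (Finset.univ : Finset A).filter (fun a : A => (QuotientGroup.mk a : A ⧸ commutator A) = q),
      χ (a : G) * (starRingEnd ℂ) ((mu.comp (QuotientGroup.mk' (commutator A))) a : ℂ)) =
      (Nat.card (commutator A) : ℂ) * (ψ q * (starRingEnd ℂ) (mu q : ℂ)) := by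
    intro q
    rw [← hfib q, ← nsmul_eq_mul, ← Finset.sum_const]
    refine Finset.sum_congr rfl fun a ha => ?_
    rw [← hψe a, MonoidHom.comp_apply, QuotientGroup.mk'_apply, (Finset.mem_filter.1 ha).2]
  rw [Finset.sum_congr rfl fun q _ => hsum q, ← Finset.mul_sum] at h'
  exact (mul_eq_zero.1 h').resolve_left (Nat.cast_ne_zero.mpr Nat.card_pos.ne')

theorem isIrr_of_indFun {D : Subgroup G} [Fintype D] {θ : D → ℂ} (hθ : IsCharacter D θ)
    (h : IsIrrCharacter G (indFun D θ)) : IsIrrCharacter D θ := by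
  classical
  have hθ0 : θ ≠ 0 := fun e => irr_one_ne_zero h (by rw [indFun_one_eval, e, Pi.zero_apply, mul_zero])
  obtain ⟨η, hη⟩ := exists_constituent hθ hθ0
  have hrest : IsCharacter D (θ - (η : D → ℂ)) := by
    have hk : 1 ≤ mult θ η := Nat.one_le_iff_ne_zero.2 fun e => hη (by
      rw [mult_spec hθ (isCharacter_of_isIrr η.2), e, Nat.cast_zero])
    simpa using isCharacter_sub_constituent hθ η.2 hk
  have hie := isCharacter_indFun D (isCharacter_of_isIrr η.2)
  have hir := isCharacter_indFun D hrest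
  have hkey : ∀ a : G → ℂ, IsCharacter G a → a ≠ 0 → 1 ≤ mult a (indFun D θ) ∨ ∃ c : IrrCharacter G, (c : G → ℂ) ≠ indFun D θ ∧ mult a c ≠ 0 := by
    intro a ha ha0
    obtain ⟨c, hc⟩ := exists_constituent ha ha0
    have hm : mult a c ≠ 0 := fun e => hc (by rw [mult_spec ha (isCharacter_of_isIrr c.2), e, Nat.cast_zero])
    by_cases e : (c : G → ℂ) = indFun D θ
    · exact Or.inl (by rw [← e]; exact Nat.one_le_iff_ne_zero.2 hm)
    · exact Or.inr ⟨c, e, hm⟩
  have hsum : indFun D θ = indFun D (η : D → ℂ) + indFun D (θ - η) := by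
    rw [← indFun_add, add_sub_cancel]
  have hadd : ∀ c : IrrCharacter G, mult (indFun D (η : D → ℂ)) c + mult (indFun D (θ - η)) c = mult (indFun D θ) c := by
    intro c
    have e : classInner (indFun D θ) (c : G → ℂ) = classInner (indFun D (η : D → ℂ) + indFun D (θ - η)) (c : G → ℂ) := by
      rw [← hsum]
    rw [classInner_add_left, mult_spec (isCharacter_of_isIrr h) (isCharacter_of_isIrr c.2),
      mult_spec hie (isCharacter_of_isIrr c.2), mult_spec hir (isCharacter_of_isIrr c.2)] at e
    exact_mod_cast e.symm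
  have hself : mult (indFun D θ) (indFun D θ) = 1 := by
    have e := mult_spec (isCharacter_of_isIrr h) (isCharacter_of_isIrr h)
    rw [irr_inner_self h] at e
    exact_mod_cast e.symm
  have hoff : ∀ c : IrrCharacter G, (c : G → ℂ) ≠ indFun D θ → mult (indFun D θ) c = 0 := by
    intro c hc
    have e := mult_spec (isCharacter_of_isIrr h) (isCharacter_of_isIrr c.2)
    rw [irr_inner_of_ne h c.2 (Ne.symm hc)] at e
    exact_mod_cast e.symm
  have hle : ∀ a : G → ℂ, IsCharacter G a → a ≠ 0 → (∀ c : IrrCharacter G, mult a c ≤ mult (indFun D θ) c) → 1 ≤ mult a (indFun D θ) := by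
    intro a ha ha0 hac
    rcases hkey a ha ha0 with e | ⟨c, hc, hm⟩
    · exact e
    · exact absurd (Nat.le_zero.1 (hoff c hc ▸ hac c)) hm
  have hz : indFun D (θ - η) = 0 := by
    by_contra hne
    have h1 := hle _ hir hne fun c => by rw [← hadd c]; omega
    have h2 := hle _ hie (fun e => by
      have := congrFun e 1
      rw [indFun_one_eval, Pi.zero_apply] at this
      exact mul_ne_zero (Nat.cast_ne_zero.mpr Subgroup.index_ne_zero_of_finite) (irr_one_ne_zero η.2) this)
      fun c => by rw [← hadd c]; omega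
    have h3 := hadd ⟨_, h⟩
    simp only at h3
    omega
  have h1 : (θ - η) 1 = 0 := by
    have := congrFun hz 1
    rw [indFun_one_eval, Pi.zero_apply] at this
    exact (mul_eq_zero.1 this).resolve_left (Nat.cast_ne_zero.mpr Subgroup.index_ne_zero_of_finite)
  rw [sub_eq_zero.1 (char_eq_zero_of_deg hrest h1)]
  exact η.2

theorem monomial_of_absyl (n : ℕ) : ∀ (G : Type u) [Group G] [Fintype G] (M : Subgroup G) [M.Normal],
    Nat.card G = n → Group.IsSolvable M → AbSyl M → ∀ χ : G → ℂ, IsIrrCharacter G χ →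
      IsIrrCharacter M (fun m : M => χ m) →
      ∃ (U : Subgroup G) (lam : U → ℂ), IsCharacter U lam ∧ lam 1 = 1 ∧ indFun U lam = χ := by
  induction n using Nat.strong_induction_on with
  | _ n ih =>
    intro G _ _ M _ hn hs hab χ hχ hres
    classical
    have hχc := isCharacter_of_isIrr hχ
    let P : Subgroup G → Prop := fun A => A.Normal ∧ A ≤ M ∧ ∀ a ∈ A, ∀ b ∈ A, ⁅a, b⁆ ∈ kerChar χ
    obtain ⟨A, ⟨hAn, hAM, hAk⟩, hmax⟩ := (Set.toFinite {A : Subgroup G | P A}).exists_maximal
      ⟨⊥, inferInstance, bot_le, fun a ha b _ => by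
        rw [Subgroup.mem_bot.1 ha, commutatorElement_one_left]; exact one_mem _⟩
    haveI := hAn
    obtain ⟨lam, hlam⟩ := exists_linear_constituent hχ A hAk
    let φ : A → ℂ := fun a => (lam a : ℂ)
    have hφ : IsIrrCharacter A φ := isIrrCharacter_lin lam
    set T := inertia A φ with hT
    have hAT : A ≤ T := le_inertia A (isClassFunction_of_isIrr hφ)
    by_cases hTtop : T = ⊤
    · have hinv : ∀ g, conjFun A g φ = φ := fun g => (mem_inertia A).1 (by rw [← hT, hTtop]; exact Subgroup.mem_top g)
      have hsm := restrict_eq_smul_of_invariant A hχ hφ hlam hinv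
      have hcen : ∀ a ∈ A, ∀ g : G, ⁅a, g⁆ ∈ kerChar χ := by
        intro a ha g
        have hb : ⁅a, g⁆ ∈ A := by
          rw [commutatorElement_def, show a * g * a⁻¹ * g⁻¹ = a * (g * a⁻¹ * g⁻¹) by group]
          exact A.mul_mem ha (hAn.conj_mem _ (A.inv_mem ha) g)
        have h1 : (lam ⟨⁅a, g⁆, hb⟩ : ℂ) = 1 := by
          have he : (⟨⁅a, g⁆, hb⟩ : A) = ⟨a, ha⟩ * ⟨g * a⁻¹ * g⁻¹, hAn.conj_mem _ (A.inv_mem ha) g⟩ :=
            Subtype.ext (by simp [commutatorElement_def, mul_assoc])
          have hi := congrFun (hinv g) ⟨a⁻¹, A.inv_mem ha⟩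
          simp only [φ, conjFun] at hi
          rw [he, map_mul, Units.val_mul, hi, ← Units.val_mul, ← map_mul,
            show (⟨a, ha⟩ : A) * ⟨a⁻¹, A.inv_mem ha⟩ = 1 from Subtype.ext (mul_inv_cancel a), map_one, Units.val_one]
        rw [mem_kerChar_iff hχc]
        have e1 := congrFun hsm ⟨⁅a, g⁆, hb⟩
        have e2 := congrFun hsm 1
        simp only [Pi.smul_apply, smul_eq_mul, φ, map_one, Units.val_one, OneMemClass.coe_one] at e1 e2
        rw [e1, e2, h1]
      have hMA : A = M := by
        by_contra hne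
        have hbot : ∃ k, derivedSeries M k ≤ A.subgroupOf M := by
          obtain ⟨k, hk⟩ := (Group.isSolvable_def M).1 hs
          exact ⟨k, by rw [hk]; exact bot_le⟩
        have h0 : Nat.find hbot ≠ 0 := by
          intro e
          have := Nat.find_spec hbot
          rw [e, derivedSeries_zero, top_le_iff, Subgroup.subgroupOf_eq_top] at this
          exact hne (le_antisymm hAM this)
        obtain ⟨j, hj⟩ : ∃ j, Nat.find hbot = j + 1 := ⟨Nat.find hbot - 1, by omega⟩
        let D : Subgroup G := (derivedSeries M j).map M.subtype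
        haveI : (derivedSeries M j).Characteristic := inferInstance
        haveI : D.Normal := ConjAct.normal_of_characteristic_of_normal
        let K : Subgroup G := A ⊔ D
        have hKM : K ≤ M := sup_le hAM (Subgroup.map_subtype_le _)
        have hKA : ∀ a ∈ K, ∀ b ∈ K, ⁅a, b⁆ ∈ A := by
          have hAA : ⁅K, K⁆ ≤ A := by
            have hDD : ⁅D, D⁆ ≤ A := by
              rw [← Subgroup.map_commutator, ← derivedSeries_succ, ← Subgroup.map_subgroupOf_eq_of_le hAM]
              exact Subgroup.map_mono (by rw [← hj]; exact Nat.find_spec hbot)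
            rw [Subgroup.commutator_le]
            intro x hx y hy
            obtain ⟨a, ha, d, hd, rfl⟩ := Subgroup.mem_sup_of_normal_left.1 hx
            obtain ⟨a', ha', d', hd', rfl⟩ := Subgroup.mem_sup_of_normal_left.1 hy
            have h1 : QuotientGroup.mk' A a = 1 := (QuotientGroup.eq_one_iff a).2 ha
            have h2 : QuotientGroup.mk' A a' = 1 := (QuotientGroup.eq_one_iff a').2 ha'
            rw [← QuotientGroup.eq_one_iff, ← QuotientGroup.mk'_apply, map_commutatorElement, map_mul, map_mul,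
              h1, h2, one_mul, one_mul, ← map_commutatorElement]
            exact (QuotientGroup.eq_one_iff _).2 (hDD (Subgroup.commutator_mem_commutator hd hd'))
          exact fun a ha b hb => hAA (Subgroup.commutator_mem_commutator ha hb)
        have hKab : AbSyl K := fun p hp Q hQ => hab p hp Q (hQ.trans hKM)
        have hKk := comm_mem_ker_of_nilpotent hχc hKab (fun a ha k _ => hcen a ha k) hKA
        have hle := hmax (show P K from ⟨inferInstance, hKM, hKk⟩) le_sup_left
        have hD : derivedSeries M j ≤ A.subgroupOf M := fun x hx =>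
          Subgroup.mem_subgroupOf.2 (hle (Subgroup.mem_sup_right ⟨x, hx, rfl⟩))
        exact Nat.find_min hbot (by omega) hD
      subst hMA
      have hc : classInner (fun a : A => χ a) φ = 1 := by
        have e := irr_inner_self hres
        rw [hsm, classInner_smul_left, classInner_smul_right, irr_inner_self hφ, mul_one,
          mult_spec (isCharacter_restrict A hχc) (isCharacter_of_isIrr hφ), map_natCast] at e
        have e' : mult (fun a : A => χ a) φ = 1 := Nat.eq_one_of_mul_eq_one_right (by exact_mod_cast e)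
        rw [mult_spec (isCharacter_restrict A hχc) (isCharacter_of_isIrr hφ), e', Nat.cast_one]
      refine ⟨⊤, fun x => χ x, isCharacter_restrict ⊤ hχc, ?_, indFun_top (isClassFunction_of_isIrr hχ)⟩
      have e2 := congrFun hsm 1
      rw [hc, one_smul] at e2
      simpa [φ] using e2
    · obtain ⟨ξ, hξ, hind, -⟩ := exists_correspondent A hφ T hT hAT hχ hlam
      have hcov : ∀ x : G, ∃ u ∈ M, ∃ h ∈ T, x = u * h := by
        intro x
        let A' : Subgroup M := A.subgroupOf M
        let e : A' ≃* A := Subgroup.subgroupOfEquivOfLe hAM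
        have hin : ∀ f : A → ℂ, classInner (fun a : A' => χ ((a : M) : G)) (fun a => f (e a)) =
            classInner (fun a : A => χ a) f := by
          intro f
          simp only [classInner]
          rw [Nat.card_congr e.toEquiv]
          congr 1
          exact Fintype.sum_equiv e.toEquiv _ _ fun m => rfl
        have hconj : classInner (fun a : A => χ a) (conjFun A x φ) ≠ 0 := by
          rw [classInner_restrict_conjFun A (isClassFunction_of_isIrr hχ) φ x]
          exact hlam
        obtain ⟨m, hm⟩ := exists_conj_of_constituent A' hres (isIrrCharacter_comp e.toMonoidHom e.surjective hφ)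
          (isIrrCharacter_comp e.toMonoidHom e.surjective (isIrrCharacter_conjFun A x hφ))
          (fun h => hlam ((hin φ).symm.trans h)) (fun h => hconj ((hin (conjFun A x φ)).symm.trans h))
        have hm' : conjFun A (m : G) φ = conjFun A x φ := by
          funext a
          have h := congrFun hm (e.symm a)
          exact h
        have ht : x * (m : G)⁻¹ ∈ T := by
          rw [hT, mem_inertia, conjFun_mul, ← hm', ← conjFun_mul, mul_inv_cancel, conjFun_one]
        refine ⟨(x * (m : G)⁻¹) * m * (x * (m : G)⁻¹)⁻¹, (inferInstance : M.Normal).conj_mem _ m.2 _, _, ht, ?_⟩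
        group
      have hmack := restrict_indFun_of_cover M T hcov (isClassFunction_of_isIrr hξ)
      rw [hind] at hmack
      have hirr' := isIrr_of_indFun (D := T.subgroupOf M) (isCharacter_comp
        ({ toFun := fun x => ⟨((x : M) : G), Subgroup.mem_subgroupOf.mp x.2⟩
           map_one' := rfl
           map_mul' := fun _ _ => rfl } : (T.subgroupOf M) →* T) (isCharacter_of_isIrr hξ)) (hmack ▸ hres)
      have hlt : Nat.card T < n := by
        rw [← hn]
        exact lt_of_le_of_ne (Subgroup.card_le_card_group T) fun h => hTtop (Subgroup.eq_top_of_card_eq T h)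
      let j : (M.subgroupOf T) →* (T.subgroupOf M) :=
        { toFun := fun x => ⟨⟨((x : T) : G), Subgroup.mem_subgroupOf.mp x.2⟩, (x : T).2⟩
          map_one' := rfl
          map_mul' := fun _ _ => rfl }
      have hj : Function.Surjective j := fun y => ⟨⟨⟨((y : M) : G), Subgroup.mem_subgroupOf.mp y.2⟩, (y : M).2⟩, rfl⟩
      have hres' : IsIrrCharacter (M.subgroupOf T) (fun m : M.subgroupOf T => ξ m) :=
        isIrrCharacter_comp j hj hirr'
      have hs' : Group.IsSolvable (M.subgroupOf T) := by
        haveI := hs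
        exact Group.isSolvable_of_isSolvable_injective (f := ({ toFun := fun x => ⟨((x : T) : G), x.2⟩
                                                                map_one' := rfl
                                                                map_mul' := fun _ _ => rfl } : (M.subgroupOf T) →* M))
          (fun a b h => Subtype.ext (Subtype.ext (congrArg (fun z : M => (z : G)) h)))
      have hab' : AbSyl (M.subgroupOf T) := fun p hp Q hQ hQp a ha b hb => Subtype.ext
        (hab p hp (Q.map T.subtype) (by rintro _ ⟨x, hx, rfl⟩; exact hQ hx) (hQp.map _) (a : G) ⟨a, ha, rfl⟩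
          (b : G) ⟨b, hb, rfl⟩)
      obtain ⟨U', mu, hmu, hmu1, hind'⟩ := ih _ hlt T (M.subgroupOf T) rfl hs' hab' ξ hξ hres'
      let e : U' ≃* (U'.map T.subtype : Subgroup G) := Subgroup.equivMapOfInjective U' T.subtype T.subtype_injective
      refine ⟨U'.map T.subtype, fun y => mu (e.symm y), isCharacter_comp e.symm.toMonoidHom hmu, by simp [hmu1], ?_⟩
      rw [← indFun_map T U', ← hind, ← hind']
      congr 2
      funext x
      exact congrArg mu ((e.symm_apply_eq).2 (Subtype.ext rfl))

end Cfsg.Agent.RelMono
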