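/-
Relatively monomial groups: induction from subgroups over a normal subgroup.
-/
import Cfsg.Agent.Lib.CT.Chief
import Cfsg.Agent.Lib.CT.Brauer

set_option autoImplicit false

namespace Cfsg.Agent.RelMono

open Cfsg.Agent.CT

universe u

variable {G : Type u} [Group G] [Fintype G]

/-- No chief factor above `N` of any subgroup over `N` has square order. -/
def NoSquareFactor (N : Subgroup G) : Prop :=
  ∀ (H K L : Subgroup G), N ≤ L → L < K → K ≤ H → (∀ h ∈ H, ∀ k ∈ K, h * k * h⁻¹ ∈ K) →
    (∀ h ∈ H, ∀ l ∈ L, h * l * h⁻¹ ∈ L) →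
    (∀ M : Subgroup G, L ≤ M → M ≤ K → (∀ h ∈ H, ∀ m ∈ M, h * m * h⁻¹ ∈ M) → M = L ∨ M = K) →
    ¬ IsSquare (L.relIndex K)

theorem NoSquareFactor.subgroupOf {N : Subgroup G} (h : NoSquareFactor N) (T : Subgroup G) (hNT : N ≤ T) :
    NoSquareFactor (N.subgroupOf T) := by
  intro H K L hNL hLK hKH hK hL hchief
  have hinj : Function.Injective T.subtype := T.subtype_injective
  rw [← Subgroup.relIndex_map_map_of_injective L K hinj]
  refine h (H.map T.subtype) (K.map T.subtype) (L.map T.subtype) (fun x hx => ⟨⟨x, hNT hx⟩, hNL hx, rfl⟩)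
    ((Subgroup.map_lt_map_iff_of_injective hinj).2 hLK) (Subgroup.map_mono hKH)
    ?_ ?_ fun M hLM hMK hM => ?_
  · rintro _ ⟨a, ha, rfl⟩ _ ⟨b, hb, rfl⟩
    exact ⟨a * b * a⁻¹, hK a ha b hb, by simp⟩
  · rintro _ ⟨a, ha, rfl⟩ _ ⟨b, hb, rfl⟩
    exact ⟨a * b * a⁻¹, hL a ha b hb, by simp⟩
  · have hMT : (M.comap T.subtype).map T.subtype = M := by
      rw [Subgroup.map_comap_eq, Subgroup.range_subtype, inf_eq_right]
      exact hMK.trans (Subgroup.map_subtype_le K)
    rcases hchief (M.comap T.subtype) (Subgroup.map_le_iff_le_comap.1 hLM)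
      (by rw [← Subgroup.comap_map_eq_self_of_injective hinj K]; exact Subgroup.comap_mono hMK)
      (fun a ha m hm => hM (a : G) ⟨a, ha, rfl⟩ (m : G) hm) with e | e
    · exact Or.inl (by rw [← hMT, e])
    · exact Or.inr (by rw [← hMT, e])

/-- A character homogeneous on all normal subgroups above `N` restricts irreducibly. -/
theorem mult_one_of_qp {χ : G → ℂ} (hχ : IsIrrCharacter G χ) :
    ∀ (n : ℕ) (N : Subgroup G) [N.Normal] [Fintype N], N.index ≤ n → Group.IsSolvable (G ⧸ N) →
      NoSquareFactor N → QuasiPrimAbove N χ → ∀ {φ : N → ℂ} {e : ℕ}, IsIrrCharacter N φ →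
        (fun x : N => χ x) = (e : ℂ) • φ → e = 1 := by
  intro n
  induction n using Nat.strong_induction_on with
  | _ n ih =>
    intro N _ _ hn hs hch hqp φ e hφ he
    classical
    rcases eq_or_ne N ⊤ with rfl | hne
    · have h1 : classInner (fun x : (⊤ : Subgroup G) => χ x) (fun x : (⊤ : Subgroup G) => χ x) = 1 :=
        irr_inner_self (isIrrCharacter_comp (⊤ : Subgroup G).subtype
          (fun g => ⟨⟨g, trivial⟩, rfl⟩) hχ)
      rw [he, classInner_smul_left, classInner_smul_right, irr_inner_self hφ, map_natCast,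
        mul_one] at h1
      have h2 : e * e = 1 := by exact_mod_cast h1
      exact Nat.eq_one_of_mul_eq_one_right h2
    · obtain ⟨Z, p, hZn, hNZ, -, -, hab, -, hchief⟩ :=
        exists_chief N ⊤ (lt_top_iff_ne_top.mpr hne) hs
      haveI := hZn
      haveI := Fintype.ofFinite Z
      obtain ⟨ζ, e', hζ, he'⟩ := hqp Z hZn hNZ.le
      obtain ⟨c, hres, hec⟩ := homogeneous_restrict N Z hNZ.le hχ hζ he' hφ he
      have hlt : Z.index < N.index := Subgroup.index_strictAnti hNZ
      have hs' : Group.IsSolvable (G ⧸ Z) := by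
        haveI := hs
        refine Group.isSolvable_of_surjective (f := QuotientGroup.map N Z (MonoidHom.id G)
          (by simpa using hNZ.le)) ?_
        intro x
        obtain ⟨g, rfl⟩ := QuotientGroup.mk_surjective x
        exact ⟨QuotientGroup.mk g, rfl⟩
      have hch' : NoSquareFactor Z := fun H K L h1 => hch H K L (hNZ.le.trans h1)
      have h1 := ih Z.index (lt_of_lt_of_le hlt hn) Z le_rfl hs' hch' (hqp.mono hNZ.le) hζ he'
      rcases chief_dichotomy hNZ.le hab hchief hζ (conjFun_eq_of_homogeneous hχ Z he') hφ c hres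
        with hc | hc
      · rw [hec, h1, hc]
      · refine absurd ?_ (hch ⊤ Z N le_rfl hNZ le_top (fun g _ k hk => hZn.conj_mem k hk g)
          (fun g _ l hl => (inferInstance : N.Normal).conj_mem l hl g) fun M hNM hMZ hM => ?_)
        · exact ⟨c, by rw [← hc, pow_two]⟩
        · exact hchief M ⟨fun m hm g => hM g (Subgroup.mem_top g) m hm⟩ hNM hMZ

theorem relative_monomial (n : ℕ) : ∀ (G : Type u) [Group G] [Fintype G] (N : Subgroup G) [N.Normal],
    Nat.card G = n → Group.IsSolvable (G ⧸ N) → NoSquareFactor N → ∀ χ : G → ℂ, IsIrrCharacter G χ →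
      ∃ (H : Subgroup G) (hNH : N ≤ H) (ψ : H → ℂ), IsIrrCharacter H ψ ∧ indFun H ψ = χ ∧
        IsIrrCharacter N (fun n : N => ψ ⟨(n : G), hNH n.2⟩) := by
  induction n using Nat.strong_induction_on with
  | _ n ih =>
    intro G _ _ N _ hn hs hch χ hχ
    classical
    by_cases hqp : QuasiPrimAbove N χ
    · obtain ⟨φ, e, hφ, he⟩ := hqp N inferInstance le_rfl
      have h1 := mult_one_of_qp hχ N.index N le_rfl hs hch hqp hφ he
      refine ⟨⊤, le_top, fun x => χ x, isIrrCharacter_comp (⊤ : Subgroup G).subtype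
        (fun g => ⟨⟨g, trivial⟩, rfl⟩) hχ, indFun_top (isClassFunction_of_isIrr hχ), ?_⟩
      rw [h1, Nat.cast_one, one_smul] at he
      show IsIrrCharacter N (fun x : N => χ x)
      rw [he]
      exact hφ
    · simp only [QuasiPrimAbove, not_forall] at hqp
      obtain ⟨X, hX, hNX, hno⟩ := hqp
      haveI := hX
      obtain ⟨φ, hφne⟩ := exists_constituent_restrict X hχ
      set T := inertia X (φ : X → ℂ) with hT
      have hXT : X ≤ T := le_inertia X (isClassFunction_of_isIrr φ.2)
      have hTne : T ≠ ⊤ := by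
        intro h
        refine hno ⟨φ, mult (fun x : X => χ x) φ, φ.2, ?_⟩
        rw [← mult_spec (isCharacter_restrict X (isCharacter_of_isIrr hχ)) (isCharacter_of_isIrr φ.2)]
        exact restrict_eq_smul_of_invariant X hχ φ.2 hφne fun g =>
          (mem_inertia X).1 (by rw [← hT, h]; exact Subgroup.mem_top g)
      obtain ⟨ξ, hξ, hind, -⟩ := exists_correspondent X φ.2 T hT hXT hχ hφne
      have hNT : N ≤ T := hNX.trans hXT
      have hlt : Nat.card T < n := by
        rw [← hn]
        exact lt_of_le_of_ne (Subgroup.card_le_card_group T) fun h => hTne (Subgroup.eq_top_of_card_eq T h)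
      have hs' : Group.IsSolvable (T ⧸ N.subgroupOf T) := by
        haveI := hs
        refine Group.isSolvable_of_isSolvable_injective
          (f := QuotientGroup.map (N.subgroupOf T) N T.subtype le_rfl) ?_
        rw [injective_iff_map_eq_one]
        intro x hx
        obtain ⟨t, rfl⟩ := QuotientGroup.mk_surjective x
        rw [QuotientGroup.eq_one_iff]
        exact (QuotientGroup.eq_one_iff (N := N) (t : G)).1 hx
      obtain ⟨H', hH', ψ', hψ', hind', hres'⟩ :=
        ih _ hlt T (N.subgroupOf T) rfl hs' (hch.subgroupOf T hNT) ξ hξ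
      let e : H' ≃* (H'.map T.subtype : Subgroup G) := Subgroup.equivMapOfInjective H' T.subtype T.subtype_injective
      refine ⟨H'.map T.subtype, fun x hx => ⟨⟨x, hNT hx⟩, hH' hx, rfl⟩, fun y => ψ' (e.symm y),
        isIrrCharacter_comp e.symm.toMonoidHom e.symm.surjective hψ', ?_, ?_⟩
      · rw [← indFun_map T H', ← hind, ← hind']
        congr 2
        funext x
        exact congrArg ψ' ((e.symm_apply_eq).2 (Subtype.ext rfl))
      · let e' : (N.subgroupOf T) ≃* N := Subgroup.subgroupOfEquivOfLe hNT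
        have h := isIrrCharacter_comp e'.symm.toMonoidHom e'.symm.surjective hres'
        convert h using 1
        funext x
        exact congrArg ψ' ((e.symm_apply_eq).2 (Subtype.ext rfl))

end Cfsg.Agent.RelMono
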